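import Mathlib
import Cfsg.Prelude.Def_ParabolicCharacters

/-!
Permutation matrices in `GL_n` and the Bruhat decomposition `GL_n = ⋃ B w B`.
-/

set_option autoImplicit false
set_option linter.unusedSectionVars false

namespace Cfsg.Agent.Lib.GLUnip.Bruhat

open Matrix Cfsg
open scoped MatrixGroups

variable {n : ℕ} {F : Type*} [Field F]

/-- The permutation matrix: column `j` has its `1` in row `w j`. -/
def pmMat (F : Type*) [Field F] (w : Equiv.Perm (Fin n)) : Matrix (Fin n) (Fin n) F :=
  Matrix.of fun i j => if i = w j then 1 else 0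

theorem pmMat_apply (w : Equiv.Perm (Fin n)) (i j : Fin n) :
    pmMat F w i j = if i = w j then 1 else 0 := rfl

theorem pmMat_one : pmMat F (1 : Equiv.Perm (Fin n)) = 1 := by
  ext i j
  by_cases h : i = j <;> simp [pmMat_apply, Matrix.one_apply, h]

theorem pmMat_mul (w w' : Equiv.Perm (Fin n)) : pmMat F (w * w') = pmMat F w * pmMat F w' := by
  ext i j
  rw [Matrix.mul_apply, Finset.sum_eq_single (w' j)]
  · by_cases h : i = w (w' j) <;> simp [pmMat_apply, h]
  · intro b _ hb
    rw [pmMat_apply w' b j, if_neg hb, mul_zero]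
  · intro h
    exact absurd (Finset.mem_univ _) h

/-- The permutation matrix as an element of `GL_n`. -/
def pm (F : Type*) [Field F] : Equiv.Perm (Fin n) →* GL (Fin n) F where
  toFun w :=
    { val := pmMat F w
      inv := pmMat F w⁻¹
      val_inv := by rw [← pmMat_mul, mul_inv_cancel, pmMat_one]
      inv_val := by rw [← pmMat_mul, inv_mul_cancel, pmMat_one] }
  map_one' := by
    ext i j
    simp [pmMat_one]
  map_mul' w w' := by
    ext i j
    simp [pmMat_mul]

theorem pm_val (w : Equiv.Perm (Fin n)) : ((pm F w : GL (Fin n) F) : Matrix (Fin n) (Fin n) F) = pmMat F w := rfl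

theorem pmMat_mul_apply (w : Equiv.Perm (Fin n)) (g : Matrix (Fin n) (Fin n) F) (i j : Fin n) :
    (pmMat F w * g) i j = g (w⁻¹ i) j := by
  rw [Matrix.mul_apply, Finset.sum_eq_single (w⁻¹ i)]
  · simp [pmMat_apply]
  · intro b _ hb
    rw [pmMat_apply, if_neg, zero_mul]
    rintro rfl
    exact hb (by simp)
  · intro h
    exact absurd (Finset.mem_univ _) h

/-- Unit upper triangular matrices are invertible. -/
noncomputable def utGL (M : Matrix (Fin n) (Fin n) F) (hu : M.BlockTriangular id) (hd : ∀ i, M i i = 1) :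
    GL (Fin n) F :=
  Matrix.GeneralLinearGroup.mkOfDetNeZero M (by
    rw [Matrix.det_of_isUpperTriangular hu]
    simp [hd])

theorem utGL_val (M : Matrix (Fin n) (Fin n) F) (hu : M.BlockTriangular id) (hd : ∀ i, M i i = 1) :
    ((utGL M hu hd : GL (Fin n) F) : Matrix (Fin n) (Fin n) F) = M := rfl

theorem utGL_mem (M : Matrix (Fin n) (Fin n) F) (hu : M.BlockTriangular id) (hd : ∀ i, M i i = 1) :
    utGL M hu hd ∈ upperTriangularGL n F := hu

/-- The column operation. -/
def colOp (j : Fin n) (C : Fin n → F) : Matrix (Fin n) (Fin n) F :=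
  1 - Matrix.of fun u v => if u = j then C v else 0

theorem mul_colOp (h : Matrix (Fin n) (Fin n) F) (j : Fin n) (C : Fin n → F) (t m : Fin n) :
    (h * colOp j C) t m = h t m - h t j * C m := by
  rw [colOp, Matrix.mul_sub, Matrix.mul_one, Matrix.sub_apply, Matrix.mul_apply]
  congr 1
  rw [Finset.sum_eq_single j]
  · simp
  · intro b _ hb
    simp [hb]
  · intro h
    exact absurd (Finset.mem_univ _) h

/-- The row operation. -/
def rowOp (i₀ : Fin n) (d : Fin n → F) : Matrix (Fin n) (Fin n) F :=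
  1 - Matrix.of fun u v => if v = i₀ then d u else 0

theorem rowOp_mul (h : Matrix (Fin n) (Fin n) F) (i₀ : Fin n) (d : Fin n → F) (t m : Fin n) :
    (rowOp i₀ d * h) t m = h t m - d t * h i₀ m := by
  rw [rowOp, Matrix.sub_mul, Matrix.one_mul, Matrix.sub_apply, Matrix.mul_apply]
  congr 1
  rw [Finset.sum_eq_single i₀]
  · simp
  · intro b _ hb
    simp [hb]
  · intro h
    exact absurd (Finset.mem_univ _) h

theorem colOp_tri (j : Fin n) (C : Fin n → F) (hC : ∀ m, m ≤ j → C m = 0) :
    (colOp j C).BlockTriangular id := by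
  intro a b hab
  simp only [id] at hab
  rw [colOp, Matrix.sub_apply, Matrix.one_apply_ne (ne_of_gt hab), Matrix.of_apply]
  by_cases h : a = j
  · subst h
    rw [if_pos rfl, hC b hab.le, sub_zero]
  · rw [if_neg h, sub_zero]

theorem colOp_diag (j : Fin n) (C : Fin n → F) (hC : ∀ m, m ≤ j → C m = 0) (i : Fin n) :
    colOp j C i i = 1 := by
  rw [colOp, Matrix.sub_apply, Matrix.one_apply_eq, Matrix.of_apply]
  by_cases h : i = j
  · subst h
    rw [if_pos rfl, hC i le_rfl, sub_zero]
  · rw [if_neg h, sub_zero]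

theorem rowOp_tri (i₀ : Fin n) (d : Fin n → F) (hd : ∀ t, i₀ ≤ t → d t = 0) :
    (rowOp i₀ d).BlockTriangular id := by
  intro a b hab
  simp only [id] at hab
  rw [rowOp, Matrix.sub_apply, Matrix.one_apply_ne (ne_of_gt hab), Matrix.of_apply]
  by_cases h : b = i₀
  · subst h
    rw [if_pos rfl, hd a hab.le, sub_zero]
  · rw [if_neg h, sub_zero]

theorem rowOp_diag (i₀ : Fin n) (d : Fin n → F) (hd : ∀ t, i₀ ≤ t → d t = 0) (i : Fin n) :
    rowOp i₀ d i i = 1 := by
  rw [rowOp, Matrix.sub_apply, Matrix.one_apply_eq, Matrix.of_apply]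
  by_cases h : i = i₀
  · subst h
    rw [if_pos rfl, hd i le_rfl, sub_zero]
  · rw [if_neg h, sub_zero]

/-- The rows `≥ n - k` have a pivot, alone in its row and in its column. -/
def Good (k : ℕ) (h : Matrix (Fin n) (Fin n) F) : Prop :=
  ∀ i : Fin n, n ≤ i.val + k → ∃ j, h i j ≠ 0 ∧ (∀ j', j' ≠ j → h i j' = 0) ∧ (∀ i', i' ≠ i → h i' j = 0)

/-- One elimination step. -/
theorem good_step {k : ℕ} (hk : k < n) (g : GL (Fin n) F)
    (hg : Good k (g : Matrix (Fin n) (Fin n) F)) :
    ∃ D ∈ upperTriangularGL n F, ∃ E ∈ upperTriangularGL n F,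
      Good (k + 1) ((D * g * E : GL (Fin n) F) : Matrix (Fin n) (Fin n) F) := by
  classical
  set h : Matrix (Fin n) (Fin n) F := (g : Matrix (Fin n) (Fin n) F) with hh
  have hdet : h.det ≠ 0 := by
    have := (Matrix.isUnit_iff_isUnit_det _).1 g.isUnit
    exact this.ne_zero
  let i₀ : Fin n := ⟨n - k - 1, by omega⟩
  have hi₀ : i₀.val + k + 1 = n := by
    show n - k - 1 + k + 1 = n
    omega
  -- the row is non zero
  have hrow : ∃ j, h i₀ j ≠ 0 := by
    by_contra hne
    push Not at hne
    exact hdet (Matrix.det_eq_zero_of_row_eq_zero i₀ hne)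
  let S : Finset (Fin n) := Finset.univ.filter fun j => h i₀ j ≠ 0
  have hS : S.Nonempty := by
    obtain ⟨j, hj⟩ := hrow
    exact ⟨j, by simp [S, hj]⟩
  let j := S.min' hS
  have hj : h i₀ j ≠ 0 := by
    have := S.min'_mem hS
    simpa [S] using this
  have hmin : ∀ m, m < j → h i₀ m = 0 := by
    intro m hm
    by_contra hne
    have hmS : m ∈ S := by simp [S, hne]
    exact absurd (S.min'_le m hmS) (not_le.mpr hm)
  let c := h i₀ j
  let C : Fin n → F := fun m => if j < m then h i₀ m / c else 0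
  have hC : ∀ m, m ≤ j → C m = 0 := by
    intro m hm
    simp only [C]
    rw [if_neg (not_lt.mpr hm)]
  let d : Fin n → F := fun t => if t < i₀ then h t j / c else 0
  have hd : ∀ t, i₀ ≤ t → d t = 0 := by
    intro t ht
    simp only [d]
    rw [if_neg (not_lt.mpr ht)]
  let E : GL (Fin n) F := utGL (colOp j C) (colOp_tri j C hC) (colOp_diag j C hC)
  let D : GL (Fin n) F := utGL (rowOp i₀ d) (rowOp_tri i₀ d hd) (rowOp_diag i₀ d hd)
  refine ⟨D, utGL_mem _ _ _, E, utGL_mem _ _ _, ?_⟩
  -- entries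
  let h' : Matrix (Fin n) (Fin n) F := h * colOp j C
  have h'_apply : ∀ t m, h' t m = h t m - h t j * C m := fun t m => mul_colOp h j C t m
  have hval : ((D * g * E : GL (Fin n) F) : Matrix (Fin n) (Fin n) F) = rowOp i₀ d * h' := by
    simp only [Units.val_mul]
    rw [Matrix.mul_assoc]
    rfl
  rw [hval]
  have hres : ∀ t m, (rowOp i₀ d * h') t m = h' t m - d t * h' i₀ m := fun t m => rowOp_mul h' i₀ d t m
  have hc : c ≠ 0 := hj
  have h'j : ∀ t, h' t j = h t j := by
    intro t
    rw [h'_apply, hC j le_rfl, mul_zero, sub_zero]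
  have hrow0 : ∀ m, m ≠ j → h' i₀ m = 0 := by
    intro m hm
    rw [h'_apply]
    rcases lt_or_gt_of_ne hm with hlt | hgt
    · rw [hC m hlt.le, mul_zero, sub_zero]
      exact hmin m hlt
    · have : C m = h i₀ m / c := if_pos hgt
      rw [this]
      show h i₀ m - c * (h i₀ m / c) = 0
      field_simp
      simp
  -- processed rows
  have hproc : ∀ t : Fin n, n ≤ t.val + k → h t j = 0 := by
    intro t ht
    obtain ⟨jt, h1, h2, h3⟩ := hg t ht
    have hti : i₀ ≠ t := by
      intro e
      rw [← e] at ht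
      omega
    have hne : j ≠ jt := by
      rintro rfl
      exact hj (h3 i₀ hti)
    exact h2 j hne
  intro i hi
  by_cases hii : i = i₀
  · -- the new row
    subst hii
    refine ⟨j, ?_, ?_, ?_⟩
    · rw [hres, hd _ le_rfl, zero_mul, sub_zero, h'j]
      exact hj
    · intro m hm
      rw [hres, hd _ le_rfl, zero_mul, sub_zero]
      exact hrow0 m hm
    · intro t ht
      rw [hres, h'j, h'j]
      rcases lt_or_gt_of_ne ht with hlt | hgt
      · have : d t = h t j / c := if_pos hlt
        rw [this]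
        show h t j - h t j / c * c = 0
        field_simp
        simp
      · rw [hd t hgt.le, zero_mul, sub_zero]
        apply hproc
        have : i₀.val < t.val := hgt
        omega
  · -- an old row
    have hi' : n ≤ i.val + k := by
      by_contra hlt
      apply hii
      apply Fin.ext
      show i.val = n - k - 1
      omega
    have hilt : i₀ < i := by
      show i₀.val < i.val
      omega
    obtain ⟨jt, h1, h2, h3⟩ := hg i hi'
    have hijt : h i₀ jt = 0 := h3 i₀ (ne_of_lt hilt)
    have hCjt : C jt = 0 := by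
      simp only [C]
      split_ifs
      · rw [hijt, zero_div]
      · rfl
    have hsame : ∀ m, (rowOp i₀ d * h') i m = h i m := by
      intro m
      rw [hres, hd i hilt.le, zero_mul, sub_zero, h'_apply, hproc i hi', zero_mul, sub_zero]
    have hh'jt : ∀ t, h' t jt = h t jt := by
      intro t
      rw [h'_apply, hCjt, mul_zero, sub_zero]
    refine ⟨jt, ?_, ?_, ?_⟩
    · rw [hsame]
      exact h1
    · intro m hm
      rw [hsame]
      exact h2 m hm
    · intro t ht
      rw [hres, hh'jt, hh'jt, h3 t ht, hijt, mul_zero, sub_zero]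

theorem exists_good (g : GL (Fin n) F) (k : ℕ) (hk : k ≤ n) :
    ∃ D ∈ upperTriangularGL n F, ∃ E ∈ upperTriangularGL n F,
      Good k ((D * g * E : GL (Fin n) F) : Matrix (Fin n) (Fin n) F) := by
  induction k with
  | zero =>
    refine ⟨1, one_mem _, 1, one_mem _, ?_⟩
    intro i hi
    have := i.2
    omega
  | succ k ih =>
    obtain ⟨D, hD, E, hE, h⟩ := ih (by omega)
    obtain ⟨D', hD', E', hE', h'⟩ := good_step (by omega) (D * g * E) h
    refine ⟨D' * D, mul_mem hD' hD, E * E', mul_mem hE hE', ?_⟩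
    have : D' * D * g * (E * E') = D' * (D * g * E) * E' := by group
    rw [this]
    exact h'

/-- Bruhat decomposition for `GL_n`. -/
theorem exists_bruhat (g : GL (Fin n) F) :
    ∃ b₁ ∈ upperTriangularGL n F, ∃ b₂ ∈ upperTriangularGL n F, ∃ w : Equiv.Perm (Fin n),
      g = b₁ * pm F w * b₂ := by
  classical
  obtain ⟨D, hD, E, hE, h⟩ := exists_good g n le_rfl
  set h' : GL (Fin n) F := D * g * E with hh'
  have hall : ∀ i : Fin n, ∃ j, (h' : Matrix (Fin n) (Fin n) F) i j ≠ 0 ∧
      (∀ j', j' ≠ j → (h' : Matrix (Fin n) (Fin n) F) i j' = 0) ∧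
      (∀ i', i' ≠ i → (h' : Matrix (Fin n) (Fin n) F) i' j = 0) := fun i => h i (by omega)
  choose π hπ1 hπ2 hπ3 using hall
  have hinj : Function.Injective π := by
    intro a b hab
    by_contra hne
    apply hπ1 a
    rw [hab]
    exact hπ3 b a hne
  let v : Equiv.Perm (Fin n) := Equiv.ofBijective π (Finite.injective_iff_bijective.1 hinj)
  have hv : ∀ i, v i = π i := fun i => rfl
  -- `w = v⁻¹`, `pm w⁻¹ * h'` is diagonal
  let dd : GL (Fin n) F := pm F v * h'
  have hdd : dd ∈ upperTriangularGL n F := by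
    show (dd : Matrix (Fin n) (Fin n) F).BlockTriangular id
    intro a b hab
    simp only [id] at hab
    show (pmMat F v * (h' : Matrix (Fin n) (Fin n) F)) a b = 0
    rw [pmMat_mul_apply]
    apply hπ2
    intro hb
    have : v (v⁻¹ a) = a := by simp
    rw [hv, ← hb] at this
    rw [this] at hab
    exact lt_irrefl _ hab
  refine ⟨D⁻¹, inv_mem hD, dd * E⁻¹, mul_mem hdd (inv_mem hE), v⁻¹, ?_⟩
  have h1 : pm F v⁻¹ * dd = h' := by
    simp only [dd, map_inv]
    group
  calc g = D⁻¹ * h' * E⁻¹ := by rw [hh']; group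
    _ = D⁻¹ * (pm F v⁻¹ * dd) * E⁻¹ := by rw [h1]
    _ = _ := by group

end Cfsg.Agent.Lib.GLUnip.Bruhat
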