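import Mathlib

/-!
Permutations and joint label counts: double cosets of Young subgroups, contingency tables.
-/

set_option autoImplicit false
set_option linter.unusedSectionVars false

namespace Cfsg.Agent.Lib.GLUnip.Young

open Finset

variable {ι L : Type*} [Fintype ι] [DecidableEq ι]

/-- Two functions with equal fibre sizes differ by a permutation. -/
theorem exists_perm_of_fibers {K : Type*} [DecidableEq K] (f f' : ι → K)
    (h : ∀ k, Fintype.card {x // f x = k} = Fintype.card {x // f' x = k}) :
    ∃ τ : Equiv.Perm ι, ∀ x, f (τ x) = f' x := by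
  classical
  let e : ∀ k, {x // f' x = k} ≃ {x // f x = k} := fun k => Fintype.equivOfCardEq (h k).symm
  refine ⟨Equiv.ofFiberEquiv e, fun x => ?_⟩
  exact Equiv.ofFiberEquiv_map e x

/-- A function with prescribed fibre sizes. -/
theorem exists_fun_of_sizes {K : Type*} [Fintype K] [DecidableEq K] (m : K → ℕ)
    (hm : ∑ k, m k = Fintype.card ι) :
    ∃ f : ι → K, ∀ k, Fintype.card {x // f x = k} = m k := by
  classical
  have hc : Fintype.card ι = Fintype.card (Σ k, Fin (m k)) := by
    rw [Fintype.card_sigma]
    simp [hm]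
  let e : ι ≃ (Σ k, Fin (m k)) := Fintype.equivOfCardEq hc
  refine ⟨fun x => (e x).1, fun k => ?_⟩
  have h1 : {x // (e x).1 = k} ≃ Fin (m k) :=
    (Equiv.subtypeEquiv e fun x => Iff.rfl).trans (Equiv.sigmaSubtype k)
  rw [Fintype.card_congr h1, Fintype.card_fin]

/-- The joint label count. -/
def jc [DecidableEq L] (r s : ι → L) (w : Equiv.Perm ι) (i j : L) : ℕ :=
  Fintype.card {c : ι // s c = j ∧ r (w c) = i}

variable [DecidableEq L]

/-- Equal joint counts for `w` and `σ w τ`. -/
theorem jc_mul {r s : ι → L} {w σ τ : Equiv.Perm ι} (hσ : ∀ x, r (σ x) = r x)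
    (hτ : ∀ x, s (τ x) = s x) (i j : L) :
    jc r s (σ * w * τ) i j = jc r s w i j := by
  unfold jc
  apply Fintype.card_congr
  refine (Equiv.subtypeEquiv τ ?_)
  intro c
  simp only [Equiv.Perm.coe_mul, Function.comp_apply, hτ, hσ]

/-- Double cosets are detected by the joint counts. -/
theorem exists_of_jc_eq {r s : ι → L} {w w' : Equiv.Perm ι}
    (h : ∀ i j, jc r s w i j = jc r s w' i j) :
    ∃ σ τ : Equiv.Perm ι, (∀ x, r (σ x) = r x) ∧ (∀ x, s (τ x) = s x) ∧ w' = σ * w * τ := by
  classical
  have hf : ∀ k : L × L, Fintype.card {x // (s x, r (w x)) = k} =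
      Fintype.card {x // (s x, r (w' x)) = k} := by
    rintro ⟨j, i⟩
    have h1 := h i j
    unfold jc at h1
    simp only [Prod.mk.injEq]
    exact h1
  obtain ⟨τ, hτ⟩ := exists_perm_of_fibers _ _ hf
  have h1 : ∀ x, s (τ x) = s x := fun x => congrArg Prod.fst (hτ x)
  have h2 : ∀ x, r (w (τ x)) = r (w' x) := fun x => congrArg Prod.snd (hτ x)
  refine ⟨w' * τ⁻¹ * w⁻¹, τ, ?_, h1, ?_⟩
  · intro x
    have h3 := h2 (τ⁻¹ (w⁻¹ x))
    simp at h3
    simpa using h3.symm
  · ext x
    simp

/-- A contingency table with given fibre sizes is realised by a permutation. -/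
theorem exists_of_table [Fintype L] {r s : ι → L} (M : L → L → ℕ)
    (hr : ∀ i, ∑ j, M i j = Fintype.card {x // r x = i})
    (hs : ∀ j, ∑ i, M i j = Fintype.card {x // s x = j}) :
    ∃ w : Equiv.Perm ι, ∀ i j, jc r s w i j = M i j := by
  classical
  have hsum : ∑ k : L × L, M k.2 k.1 = Fintype.card ι := by
    rw [Fintype.sum_prod_type]
    simp_rw [hs]
    rw [← Fintype.card_sigma]
    exact Fintype.card_congr (Equiv.sigmaFiberEquiv s)
  obtain ⟨G, hG⟩ := exists_fun_of_sizes (ι := ι) (fun k : L × L => M k.2 k.1) hsum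
  -- adjust `G` so that its first coordinate is `s`
  have hfst : ∀ j, Fintype.card {x // (G x).1 = j} = Fintype.card {x // s x = j} := by
    intro j
    rw [← hs j]
    have : Fintype.card {x // (G x).1 = j} = ∑ i, Fintype.card {x // G x = (j, i)} := by
      rw [← Fintype.card_sigma]
      apply Fintype.card_congr
      exact
        { toFun := fun x => ⟨(G x.1).2, x.1, Prod.ext x.2 rfl⟩
          invFun := fun p => ⟨p.2.1, by rw [p.2.2]⟩
          left_inv := fun x => Subtype.ext rfl
          right_inv := by
            rintro ⟨i, x, hx⟩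
            have : (G x).2 = i := by rw [hx]
            subst this
            rfl }
    rw [this]
    exact Finset.sum_congr rfl fun i _ => hG (j, i)
  obtain ⟨τ, hτ⟩ := exists_perm_of_fibers (fun x => (G x).1) s hfst
  let G' : ι → L × L := fun x => G (τ x)
  have hG'1 : ∀ x, (G' x).1 = s x := hτ
  have hG' : ∀ k, Fintype.card {x // G' x = k} = M k.2 k.1 := by
    intro k
    rw [← hG k]
    exact Fintype.card_congr (Equiv.subtypeEquiv τ fun x => Iff.rfl)
  -- second coordinate
  have hsnd : ∀ i, Fintype.card {x // r x = i} = Fintype.card {x // (G' x).2 = i} := by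
    intro i
    rw [← hr i]
    have : Fintype.card {x // (G' x).2 = i} = ∑ j, Fintype.card {x // G' x = (j, i)} := by
      rw [← Fintype.card_sigma]
      apply Fintype.card_congr
      exact
        { toFun := fun x => ⟨(G' x.1).1, x.1, Prod.ext rfl x.2⟩
          invFun := fun p => ⟨p.2.1, by rw [p.2.2]⟩
          left_inv := fun x => Subtype.ext rfl
          right_inv := by
            rintro ⟨j, x, hx⟩
            have : (G' x).1 = j := by rw [hx]
            subst this
            rfl }
    rw [this]
    exact Finset.sum_congr rfl fun j _ => (hG' (j, i)).symm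
  obtain ⟨w, hw⟩ := exists_perm_of_fibers r (fun x => (G' x).2) hsnd
  refine ⟨w, fun i j => ?_⟩
  have : jc r s w i j = Fintype.card {x // G' x = (j, i)} := by
    unfold jc
    apply Fintype.card_congr
    refine Equiv.subtypeEquivRight fun c => ?_
    constructor
    · rintro ⟨h1, h2⟩
      exact Prod.ext ((hG'1 c).trans h1) ((hw c).symm.trans h2)
    · intro h
      exact ⟨(hG'1 c).symm.trans (congrArg Prod.fst h), (hw c).trans (congrArg Prod.snd h)⟩
  rw [this, hG']

/-- The row sums of the joint count. -/
theorem sum_jc_right [Fintype L] (r s : ι → L) (w : Equiv.Perm ι) (i : L) :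
    ∑ j, jc r s w i j = Fintype.card {x // r x = i} := by
  classical
  have h1 : Fintype.card {x // r x = i} = Fintype.card {c // r (w c) = i} :=
    Fintype.card_congr (Equiv.subtypeEquiv w fun c => Iff.rfl).symm
  rw [h1]
  unfold jc
  rw [← Fintype.card_sigma]
  apply Fintype.card_congr
  exact
    { toFun := fun p => ⟨p.2.1, p.2.2.2⟩
      invFun := fun c => ⟨s c.1, c.1, rfl, c.2⟩
      left_inv := by
        rintro ⟨j, c, h1, h2⟩
        subst h1
        rfl
      right_inv := fun c => rfl }

/-- The column sums of the joint count. -/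
theorem sum_jc_left [Fintype L] (r s : ι → L) (w : Equiv.Perm ι) (j : L) :
    ∑ i, jc r s w i j = Fintype.card {x // s x = j} := by
  classical
  unfold jc
  rw [← Fintype.card_sigma]
  apply Fintype.card_congr
  exact
    { toFun := fun p => ⟨p.2.1, p.2.2.1⟩
      invFun := fun c => ⟨r (w c.1), c.1, c.2, rfl⟩
      left_inv := by
        rintro ⟨i, c, h1, h2⟩
        subst h2
        rfl
      right_inv := fun c => rfl }

/-- A bijection from two surjections with the same fibres. -/
theorem card_eq_of_fibers {P X T : Type*} (Φ : P → X) (M : P → T) (hΦ : Function.Surjective Φ)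
    (hM : Function.Surjective M) (h : ∀ w w', Φ w = Φ w' ↔ M w = M w') :
    Nat.card X = Nat.card T := by
  refine (Nat.card_congr (Equiv.ofBijective (fun t : T => Φ (Function.surjInv hM t)) ⟨?_, ?_⟩)).symm
  · intro t t' htt
    have := (h _ _).1 htt
    rwa [Function.surjInv_eq hM t, Function.surjInv_eq hM t'] at this
  · intro x
    obtain ⟨w, rfl⟩ := hΦ x
    refine ⟨M w, ?_⟩
    apply (h _ _).2
    exact Function.surjInv_eq hM (M w)

end Cfsg.Agent.Lib.GLUnip.Young
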