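import Mathlib
import Cfsg.Prelude.Def_LinearParabolics
import Cfsg.Agent.S2420
import Cfsg.Agent.Lib.GLUnip.Bruhat
import Cfsg.Agent.Lib.GLUnip.Young
import Cfsg.Agent.Lib.Char.PermChar

/-!
Rank invariants of double cosets; the double cosets of two parabolic (or Young) subgroups are
counted by contingency tables.
-/

set_option autoImplicit false
set_option linter.unusedSectionVars false

namespace Cfsg.Agent.Lib.GLUnip.Count

open Matrix Cfsg MulAction
open Cfsg.Agent.Lib.GLUnip.Bruhat Cfsg.Agent.Lib.GLUnip.Young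
open scoped MatrixGroups

variable {n : ℕ} {F : Type*} [Field F]

/-- The lower left block of `g` for the thresholds `i, j`. -/
def blk (r s : Fin n → ℕ) (i j : ℕ) (g : Matrix (Fin n) (Fin n) F) :
    Matrix {t // i ≤ r t} {c // s c < j} F :=
  g.submatrix Subtype.val Subtype.val

theorem rank_left {r s : Fin n → ℕ} {i j : ℕ} {p g : Matrix (Fin n) (Fin n) F}
    (hp : p.BlockTriangular r) : (blk r s i j (p * g)).rank ≤ (blk r s i j g).rank := by
  have h : blk r s i j (p * g) =
      (p.submatrix (Subtype.val : {t // i ≤ r t} → Fin n) (Subtype.val : {t // i ≤ r t} → Fin n)) *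
        blk r s i j g := by
    ext t c
    simp only [blk, Matrix.submatrix_apply, Matrix.mul_apply]
    rw [← Fintype.sum_subtype_add_sum_subtype (fun u => i ≤ r u)]
    rw [Finset.sum_eq_zero (s := Finset.univ) (f := fun u : {u // ¬ i ≤ r u} => p t.1 u.1 * g u.1 c.1),
      add_zero]
    intro u _
    rw [hp (lt_of_lt_of_le (not_le.mp u.2) t.2), zero_mul]
  rw [h]
  exact Matrix.rank_mul_le_right _ _

theorem rank_right {r s : Fin n → ℕ} {i j : ℕ} {g q : Matrix (Fin n) (Fin n) F}
    (hq : q.BlockTriangular s) : (blk r s i j (g * q)).rank ≤ (blk r s i j g).rank := by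
  have h : blk r s i j (g * q) = blk r s i j g *
      (q.submatrix (Subtype.val : {c // s c < j} → Fin n) (Subtype.val : {c // s c < j} → Fin n)) := by
    ext t c
    simp only [blk, Matrix.submatrix_apply, Matrix.mul_apply]
    rw [← Fintype.sum_subtype_add_sum_subtype (fun u => s u < j)]
    rw [Finset.sum_eq_zero (s := Finset.univ) (f := fun u : {u // ¬ s u < j} => g t.1 u.1 * q u.1 c.1),
      add_zero]
    intro u _
    rw [hq (lt_of_lt_of_le c.2 (not_lt.mp u.2)), mul_zero]
  rw [h]
  exact Matrix.rank_mul_le_left _ _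

/-- The cumulative count. -/
def cnt (r s : Fin n → ℕ) (w : Equiv.Perm (Fin n)) (i j : ℕ) : ℕ :=
  Fintype.card {c // s c < j ∧ i ≤ r (w c)}

theorem rank_pm (r s : Fin n → ℕ) (w : Equiv.Perm (Fin n)) (i j : ℕ) :
    (blk r s i j (pmMat F w)).rank = cnt r s w i j := by
  classical
  let A := blk r s i j (pmMat F w)
  let B : Matrix {c // s c < j} {t // i ≤ r t} F := Matrix.of fun c t => if t.1 = w c.1 then 1 else 0
  let δ : {t // i ≤ r t} → F := fun t => if s (w.symm t.1) < j then 1 else 0
  have hAB : A * B = Matrix.diagonal δ := by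
    ext t t'
    simp only [Matrix.mul_apply, A, B, blk, Matrix.submatrix_apply, Matrix.of_apply, pmMat_apply]
    by_cases htt : t = t'
    · subst htt
      rw [Matrix.diagonal_apply_eq]
      by_cases hs : s (w.symm t.1) < j
      · rw [Finset.sum_eq_single (⟨w.symm t.1, hs⟩ : {c // s c < j})]
        · simp [δ, hs]
        · rintro ⟨b, hb⟩ _ hne
          have : t.1 ≠ w b := by
            intro e
            apply hne
            apply Subtype.ext
            simp [e]
          simp [this]
        · intro h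
          exact absurd (Finset.mem_univ _) h
      · have : δ t = 0 := by simp [δ, hs]
        rw [this]
        apply Finset.sum_eq_zero
        rintro ⟨b, hb⟩ _
        have h2 : t.1 ≠ w b := by
          rintro e
          apply hs
          rw [e]
          simpa using hb
        simp [h2]
    · rw [Matrix.diagonal_apply_ne _ htt]
      apply Finset.sum_eq_zero
      rintro ⟨b, hb⟩ _
      by_cases h1 : t.1 = w b
      · have h2 : t'.1 ≠ w b := by
          intro e
          exact htt (Subtype.ext (h1.trans e.symm))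
        simp [h2]
      · simp [h1]
  have hDA : Matrix.diagonal δ * A = A := by
    ext t c
    rw [Matrix.diagonal_mul]
    simp only [A, blk, Matrix.submatrix_apply, pmMat_apply, δ]
    by_cases h1 : t.1 = w c.1
    · have : s (w.symm t.1) < j := by
        rw [h1]
        simpa using c.2
      simp only [this, if_true, one_mul]
    · simp [h1]
  have h1 : (Matrix.diagonal δ).rank ≤ A.rank := by
    rw [← hAB]
    exact Matrix.rank_mul_le_left _ _
  have h2 : A.rank ≤ (Matrix.diagonal δ).rank := by
    conv_lhs => rw [← hDA]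
    exact Matrix.rank_mul_le_left _ _
  have h3 : A.rank = Fintype.card {t // δ t ≠ 0} := by
    rw [le_antisymm h2 h1, Matrix.rank_diagonal]
  show A.rank = _
  rw [h3]
  apply Fintype.card_congr
  refine
    { toFun := fun t => ⟨w.symm t.1.1, ?_, ?_⟩
      invFun := fun c => ⟨⟨w c.1, c.2.2⟩, ?_⟩
      left_inv := ?_
      right_inv := ?_ }
  · by_contra hs
    exact t.2 (by simp [δ, hs])
  · simpa using t.1.2
  · simp [δ, c.2.1]
  · rintro ⟨⟨t, ht⟩, h⟩
    simp
  · rintro ⟨c, hc⟩
    simp

/-- The cumulative counts are invariants of the double coset. -/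
theorem cnt_eq {r s : Fin n → ℕ} {w w' : Equiv.Perm (Fin n)} {p q : GL (Fin n) F}
    (hp : (p : Matrix (Fin n) (Fin n) F).BlockTriangular r)
    (hp' : ((p⁻¹ : GL (Fin n) F) : Matrix (Fin n) (Fin n) F).BlockTriangular r)
    (hq : (q : Matrix (Fin n) (Fin n) F).BlockTriangular s)
    (hq' : ((q⁻¹ : GL (Fin n) F) : Matrix (Fin n) (Fin n) F).BlockTriangular s)
    (h : pm F w' = p * pm F w * q) (i j : ℕ) : cnt r s w i j = cnt r s w' i j := by
  rw [← rank_pm (F := F), ← rank_pm (F := F)]
  apply le_antisymm
  · have h2 : pm F w = p⁻¹ * pm F w' * q⁻¹ := by rw [h]; group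
    have h3 : pmMat F w = ((p⁻¹ : GL (Fin n) F) : Matrix (Fin n) (Fin n) F) * pmMat F w' *
        ((q⁻¹ : GL (Fin n) F) : Matrix (Fin n) (Fin n) F) := by
      have := congrArg (fun x : GL (Fin n) F => (x : Matrix (Fin n) (Fin n) F)) h2
      simpa [pm_val] using this
    rw [h3]
    exact (rank_right hq').trans (rank_left hp')
  · have h3 : pmMat F w' = (p : Matrix (Fin n) (Fin n) F) * pmMat F w *
        (q : Matrix (Fin n) (Fin n) F) := by
      have := congrArg (fun x : GL (Fin n) F => (x : Matrix (Fin n) (Fin n) F)) h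
      simpa [pm_val] using this
    rw [h3]
    exact (rank_right hq).trans (rank_left hp)

/-- Joint counts from cumulative ones. -/
theorem jc_of_cnt (r s : Fin n → Fin n) {w w' : Equiv.Perm (Fin n)}
    (h : ∀ i j, cnt (fun x => (r x).val) (fun x => (s x).val) w i j =
      cnt (fun x => (r x).val) (fun x => (s x).val) w' i j) (i j : Fin n) :
    jc r s w i j = jc r s w' i j := by
  classical
  have key : ∀ v : Equiv.Perm (Fin n),
      cnt (fun x => (r x).val) (fun x => (s x).val) v i.val (j.val + 1) +
        cnt (fun x => (r x).val) (fun x => (s x).val) v (i.val + 1) j.val =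
      cnt (fun x => (r x).val) (fun x => (s x).val) v i.val j.val +
        cnt (fun x => (r x).val) (fun x => (s x).val) v (i.val + 1) (j.val + 1) + jc r s v i j := by
    intro v
    simp only [cnt, jc, Fintype.card_subtype, Finset.card_filter]
    rw [← Finset.sum_add_distrib, ← Finset.sum_add_distrib, ← Finset.sum_add_distrib]
    apply Finset.sum_congr rfl
    intro c _
    have e1 : s c = j ↔ (s c).val = j.val := Fin.ext_iff
    have e2 : r (v c) = i ↔ (r (v c)).val = i.val := Fin.ext_iff
    simp only [e1, e2]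
    split_ifs <;> omega
  have h1 := key w
  have h2 := key w'
  rw [h, h, h, h] at h1
  omega

/-- Contingency tables. -/
def Tab (a b : Fin n → ℕ) : Type :=
  {M : Fin n → Fin n → ℕ // (∀ i, ∑ j, M i j = a i) ∧ (∀ j, ∑ i, M i j = b j)}

section Abstract

variable {G : Type*} [Group G] (A B : Subgroup G) (ι : Equiv.Perm (Fin n) →* G)

/-- The abstract count: orbits on pairs of cosets are counted by tables. -/
theorem card_orbits_eq {a b : Fin n → ℕ} (r s : Fin n → Fin n)
    (hr : ∀ i, Fintype.card {x // r x = i} = a i) (hs : ∀ j, Fintype.card {x // s x = j} = b j)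
    (hA : ∀ σ : Equiv.Perm (Fin n), (∀ x, r (σ x) = r x) → ι σ ∈ A)
    (hB : ∀ σ : Equiv.Perm (Fin n), (∀ x, s (σ x) = s x) → ι σ ∈ B)
    (hsurj : ∀ g : G, ∃ x ∈ A, ∃ y ∈ B, ∃ w, g = x * ι w * y)
    (hsep : ∀ (w w' : Equiv.Perm (Fin n)) (p q : G), p ∈ A → q ∈ B → ι w' = p * ι w * q →
      ∀ i j, jc r s w i j = jc r s w' i j) :
    Nat.card (orbitRel.Quotient G ((G ⧸ A) × (G ⧸ B))) = Nat.card (Tab a b) := by
  classical
  let Φ : Equiv.Perm (Fin n) → orbitRel.Quotient G ((G ⧸ A) × (G ⧸ B)) := fun w =>
    Quotient.mk'' ((QuotientGroup.mk (1 : G) : G ⧸ A), (QuotientGroup.mk (ι w) : G ⧸ B))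
  let M : Equiv.Perm (Fin n) → Tab a b := fun w =>
    ⟨fun i j => jc r s w i j, fun i => by rw [sum_jc_right, hr], fun j => by rw [sum_jc_left, hs]⟩
  apply card_eq_of_fibers Φ M
  · -- surjective
    intro y
    induction y using Quotient.inductionOn' with
    | h y =>
      obtain ⟨x₁, x₂⟩ := y
      induction x₁ using QuotientGroup.induction_on with
      | H x =>
        induction x₂ using QuotientGroup.induction_on with
        | H z =>
          obtain ⟨b₁, hb₁, b₂, hb₂, w, he⟩ := hsurj (x⁻¹ * z)
          refine ⟨w, ?_⟩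
          refine (Quotient.sound' (orbitRel_apply.mpr ⟨x * b₁, ?_⟩)).symm
          refine Prod.ext ?_ ?_
          · show (QuotientGroup.mk ((x * b₁) * 1) : G ⧸ A) = QuotientGroup.mk x
            rw [mul_one]
            apply QuotientGroup.eq.mpr
            simpa using hb₁
          · show (QuotientGroup.mk ((x * b₁) * ι w) : G ⧸ B) = QuotientGroup.mk z
            apply QuotientGroup.eq.mpr
            have : ((x * b₁) * ι w)⁻¹ * z = b₂ := by
              have h3 : z = x * (b₁ * ι w * b₂) := by rw [← he]; group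
              rw [h3]
              group
            rw [this]
            exact hb₂
  · -- tables are realised
    intro t
    obtain ⟨w, hw⟩ := exists_of_table (r := r) (s := s) t.1
      (fun i => by rw [t.2.1, hr]) (fun j => by rw [t.2.2, hs])
    refine ⟨w, Subtype.ext ?_⟩
    funext i j
    exact hw i j
  · intro w w'
    constructor
    · intro h
      have h1 := Quotient.exact' h
      obtain ⟨g, hg⟩ := orbitRel_apply.mp h1
      -- `g • (1, ι w') = (1, ι w)`
      have h2 : (QuotientGroup.mk (g * 1) : G ⧸ A) = QuotientGroup.mk 1 := congrArg Prod.fst hg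
      have h3 : (QuotientGroup.mk (g * ι w') : G ⧸ B) = QuotientGroup.mk (ι w) := congrArg Prod.snd hg
      have hgA : g ∈ A := by
        have := QuotientGroup.eq.mp h2
        simpa using this
      have hq : (g * ι w')⁻¹ * ι w ∈ B := QuotientGroup.eq.mp h3
      have hsep' := hsep w' w g ((g * ι w')⁻¹ * ι w) hgA hq (by group)
      apply Subtype.ext
      funext i j
      exact (hsep' i j).symm
    · intro h
      have h1 : ∀ i j, jc r s w i j = jc r s w' i j := by
        intro i j
        have := congrArg (fun t : Tab a b => t.1 i j) h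
        exact this
      obtain ⟨σ, τ, hσ, hτ, he⟩ := exists_of_jc_eq h1
      apply Quotient.sound'
      refine orbitRel_apply.mpr ⟨(ι σ)⁻¹, ?_⟩
      have hσA := hA σ hσ
      have hτB := hB τ hτ
      refine Prod.ext ?_ ?_
      · show (QuotientGroup.mk ((ι σ)⁻¹ * 1) : G ⧸ A) = QuotientGroup.mk 1
        apply QuotientGroup.eq.mpr
        simpa using hσA
      · show (QuotientGroup.mk ((ι σ)⁻¹ * ι w') : G ⧸ B) = QuotientGroup.mk (ι w)
        apply QuotientGroup.eq.mpr
        have : ((ι σ)⁻¹ * ι w')⁻¹ * ι w = (ι τ)⁻¹ := by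
          rw [he, map_mul, map_mul]
          group
        rw [this]
        exact inv_mem hτB

end Abstract

section Burnside

variable {G : Type*} [Group G] [Fintype G]

/-- The inner product of two permutation characters. -/
theorem inner_fix (A B : Subgroup G) :
    (Nat.card G : ℂ)⁻¹ * ∑ g : G, fixedPointCharacter A g * fixedPointCharacter B g =
      (Nat.card (orbitRel.Quotient G ((G ⧸ A) × (G ⧸ B))) : ℂ) := by
  classical
  letI : Fintype ((G ⧸ A) × (G ⧸ B)) := Fintype.ofFinite _
  have hG : (Nat.card G : ℂ) ≠ 0 := by exact_mod_cast (Nat.card_pos (α := G)).ne'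
  have hterm : ∀ g : G, fixedPointCharacter A g * fixedPointCharacter B g =
      (Nat.card (fixedBy ((G ⧸ A) × (G ⧸ B)) g) : ℂ) := by
    intro g
    have : Nat.card (fixedBy ((G ⧸ A) × (G ⧸ B)) g) =
        Nat.card (fixedBy (G ⧸ A) g) * Nat.card (fixedBy (G ⧸ B) g) := by
      rw [← Nat.card_prod]
      apply Nat.card_congr
      exact
        { toFun := fun y => ⟨⟨y.1.1, congrArg Prod.fst y.2⟩, ⟨y.1.2, congrArg Prod.snd y.2⟩⟩
          invFun := fun y => ⟨(y.1.1, y.2.1), Prod.ext y.1.2 y.2.2⟩
          left_inv := fun _ => rfl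
          right_inv := fun _ => rfl }
    rw [this]
    push_cast
    rfl
  simp_rw [hterm]
  rw [Cfsg.Agent.Lib.Char.PermChar.sum_permChar_eq]
  field_simp

end Burnside

section Concrete

open Cfsg.Agent.S2420

theorem compLabel_mono {μ : Fin n → ℕ} {i j : Fin n} (h : i ≤ j) : compLabel μ i ≤ compLabel μ j := by
  apply Finset.card_le_card
  intro k hk
  simp only [Finset.mem_filter, Finset.mem_univ, true_and] at hk ⊢
  exact hk.trans h

theorem ut_le_parabolic (μ : Fin n → ℕ) : upperTriangularGL n F ≤ parabolicGL n F μ := by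
  intro g hg a b hab
  apply hg
  show b < a
  by_contra hle
  exact absurd (compLabel_mono (μ := μ) (not_lt.mp hle)) (not_le.mpr hab)

theorem pm_mem_parabolic {μ : Fin n → ℕ} {σ : Equiv.Perm (Fin n)}
    (h : ∀ x, compLabel μ (σ x) = compLabel μ x) : pm F σ ∈ parabolicGL n F μ := by
  intro a b hab
  show pmMat F σ a b = 0
  rw [pmMat_apply, if_neg]
  rintro rfl
  rw [h] at hab
  exact lt_irrefl _ hab

/-- The inner product of two flag characters of `GL_n(q)`. -/
theorem card_orbits_GL [Finite F] (a b : Fin n → ℕ) (ha : ∑ i, a i = n) (hb : ∑ i, b i = n) :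
    Nat.card (orbitRel.Quotient (GL (Fin n) F)
      ((GL (Fin n) F ⧸ parabolicGL n F a) × (GL (Fin n) F ⧸ parabolicGL n F b))) =
      Nat.card (Tab a b) := by
  apply card_orbits_eq (parabolicGL n F a) (parabolicGL n F b) (pm F) (lab a ha) (lab b hb)
    (card_fiber a ha) (card_fiber b hb)
  · intro σ hσ
    exact pm_mem_parabolic fun x => congrArg Fin.val (hσ x)
  · intro σ hσ
    exact pm_mem_parabolic fun x => congrArg Fin.val (hσ x)
  · intro g
    obtain ⟨x, hx, y, hy, w, he⟩ := exists_bruhat g
    exact ⟨x, ut_le_parabolic a hx, y, ut_le_parabolic b hy, w, he⟩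
  · intro w w' p q hp hq he
    apply jc_of_cnt
    apply cnt_eq (F := F) (p := p) (q := q) hp (inv_mem hp) hq (inv_mem hq) he

/-- The inner product of two Young characters. -/
theorem card_orbits_Sym (a b : Fin n → ℕ) (ha : ∑ i, a i = n) (hb : ∑ i, b i = n) :
    Nat.card (orbitRel.Quotient (Equiv.Perm (Fin n))
      ((Equiv.Perm (Fin n) ⧸ youngSubgroup a) × (Equiv.Perm (Fin n) ⧸ youngSubgroup b))) =
      Nat.card (Tab a b) := by
  apply card_orbits_eq (youngSubgroup a) (youngSubgroup b) (MonoidHom.id _) (lab a ha) (lab b hb)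
    (card_fiber a ha) (card_fiber b hb)
  · intro σ hσ x
    exact congrArg Fin.val (hσ x)
  · intro σ hσ x
    exact congrArg Fin.val (hσ x)
  · intro g
    exact ⟨1, one_mem _, 1, one_mem _, g, by simp⟩
  · intro w w' p q hp hq he i j
    simp only [MonoidHom.id_apply] at he
    rw [he]
    exact (jc_mul (fun x => Fin.ext (hp x)) (fun x => Fin.ext (hq x)) i j).symm

end Concrete

end Cfsg.Agent.Lib.GLUnip.Count
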